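import Groth.Agent.L05.InterPair.Negative
import Groth.Agent.L05.EulerDiv.Chain

/-!
Families of vertical curves on an arithmetic surface.
-/

set_option autoImplicit false
set_option backward.isDefEq.respectTransparency false
set_option linter.style.haveILetI false
set_option linter.unusedSectionVars false
universe u

open CategoryTheory CategoryTheory.Limits AlgebraicGeometry TopologicalSpace

noncomputable section

namespace Groth.L05.ArFamily

open Groth.L05.InterPair Groth.L05.FibreDecomp Groth.L05.EulerDiv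

section Curves

variable {R : Type u} [CommRing R] [IsDomain R] [IsDiscreteValuationRing R]
  {X : Over (Spec (CommRingCat.of R))}

theorem range_eq_iff_ker_eq (Γ Γ' : ArSurf.VertComp R X) :
    Set.range (Γ.ι.base : Γ.curve.left → X.left) = Set.range (Γ'.ι.base : Γ'.curve.left → X.left) →
      Γ.ι.ker = Γ'.ι.ker := by
  intro h
  haveI := isIntegral_subscheme_ker Γ
  haveI := isIntegral_subscheme_ker Γ'
  rw [← support_ker, ← support_ker] at h
  exact le_antisymm (Groth.L22.CartierDecomp.le_of_generic_mem (isGenericPoint_genPtOf Γ')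
      (h ▸ (isGenericPoint_genPtOf Γ').mem))
    (Groth.L22.CartierDecomp.le_of_generic_mem (isGenericPoint_genPtOf Γ) (h ▸ (isGenericPoint_genPtOf Γ).mem))

/-- A vertical curve whose generic point lies on another one equals it. -/
theorem ker_eq_of_mem {Γ Γ' : ArSurf.VertComp R X}
    (h : Models.genPtOf R X Γ ∈ Set.range (Γ'.ι.base : Γ'.curve.left → X.left)) : Γ.ι.ker = Γ'.ι.ker := by
  haveI := isIntegral_subscheme_ker Γ
  have hle : Γ'.ι.ker ≤ Γ.ι.ker :=
    Groth.L22.CartierDecomp.le_of_generic_mem (isGenericPoint_genPtOf Γ) (by rwa [support_ker])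
  let θ := IsClosedImmersion.lift Γ'.ι Γ.ι hle
  have hθ : θ ≫ Γ'.ι = Γ.ι := IsClosedImmersion.lift_fac _ _ _
  haveI : IsClosedImmersion (θ ≫ Γ'.ι) := hθ.symm ▸ inferInstance
  haveI : IsClosedImmersion θ := IsClosedImmersion.of_comp θ Γ'.ι
  have hsurj : θ (genericPoint Γ.curve.left) = genericPoint Γ'.curve.left := by
    by_contra hne
    obtain ⟨l, hl⟩ := Order.le_krullDim_iff.1
      (show ((1 : ℕ) : WithBot ℕ∞) ≤ Order.krullDim (IrreducibleCloseds Γ.curve.left) from
        (Γ.dim_eq.trans Nat.cast_one.symm).ge)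
    have hmap : StrictMono (IrreducibleCloseds.map θ θ.continuous) :=
      IrreducibleCloseds.map_strictMono_of_isInducing θ.isClosedEmbedding.isInducing
    let top : IrreducibleCloseds Γ'.curve.left :=
      ⟨Set.univ, IrreducibleSpace.isIrreducible_univ _, isClosed_univ⟩
    have hlt : (l.map _ hmap).last < top := by
      refine lt_of_le_of_ne (fun z _ => Set.mem_univ z) fun e => hne ?_
      have e' : closure (θ '' (l.last : Set Γ.curve.left)) = Set.univ := congrArg IrreducibleCloseds.carrier e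
      have h1 : genericPoint Γ'.curve.left ∈ closure (θ '' (l.last : Set Γ.curve.left)) := by
        rw [e']; exact Set.mem_univ _
      have h2 : closure (θ '' (l.last : Set Γ.curve.left)) ⊆ Set.range θ :=
        θ.isClosedEmbedding.isClosed_range.closure_subset_iff.2 (Set.image_subset_range _ _)
      obtain ⟨y, hy⟩ := h2 h1
      have hs := (genericPoint_specializes y).map θ.continuous
      rw [hy] at hs
      exact hs.antisymm (genericPoint_specializes _) |>.eq
    have h3 := Order.LTSeries.length_le_krullDim ((l.map _ hmap).snoc top hlt)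
    simp only [RelSeries.snoc_length, LTSeries.map_length, hl] at h3
    rw [show Order.krullDim (IrreducibleCloseds Γ'.curve.left) = 1 from Γ'.dim_eq] at h3
    norm_cast at h3
  refine range_eq_iff_ker_eq Γ Γ' (Set.Subset.antisymm ?_ ?_)
  · rintro _ ⟨y, rfl⟩
    exact ⟨θ y, by rw [← Scheme.Hom.comp_apply, hθ]⟩
  · rintro _ ⟨z, rfl⟩
    have hz : z ∈ Set.range θ := by
      have h1 : closure ({genericPoint Γ'.curve.left} : Set Γ'.curve.left) ⊆ Set.range θ :=
        θ.isClosedEmbedding.isClosed_range.closure_subset_iff.2 (Set.singleton_subset_iff.2 ⟨_, hsurj⟩)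
      exact h1 ((genericPoint_specializes z).mem_closure)
    obtain ⟨y, rfl⟩ := hz
    exact ⟨y, by rw [← Scheme.Hom.comp_apply, hθ]⟩

/-- A covering family of distinct vertical curves lists the components of the special fibre. -/
theorem isComponentList_of_cover {r : ℕ} (Γ : Fin r → ArSurf.VertComp R X)
    (hinj : Function.Injective fun i => Set.range ((Γ i).ι.base : (Γ i).curve.left → X.left))
    (hcov : ∀ x ∈ Models.specialFibreSet R X, ∃ i, x ∈ Set.range ((Γ i).ι.base : (Γ i).curve.left → X.left)) :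
    Models.IsComponentList R X Γ := by
  classical
  let S : Fin r → Set X.left := fun i => Set.range ((Γ i).ι.base : (Γ i).curve.left → X.left)
  have hS : ∀ i, IsIrreducible (S i) ∧ S i ⊆ Models.specialFibreSet R X := fun i => by
    refine ⟨?_, ?_⟩
    · show IsIrreducible (Set.range _)
      rw [← Set.image_univ]
      exact (IrreducibleSpace.isIrreducible_univ _).image _ (Γ i).ι.continuous.continuousOn
    · rintro _ ⟨y, rfl⟩
      show X.hom.base ((Γ i).ι.base y) = IsLocalRing.closedPoint R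
      rw [← Scheme.Hom.comp_apply, (Γ i).w, Scheme.Hom.comp_apply]
      refine PrimeSpectrum.ext ?_
      generalize (Γ i).curve.hom y = t
      show Ideal.comap (IsLocalRing.residue R) t.asIdeal = IsLocalRing.maximalIdeal R
      rw [(Ideal.eq_bot_or_top t.asIdeal).resolve_right t.2.ne_top]
      exact Ideal.mk_ker
  have hsub : ∀ T : Set X.left, IsIrreducible T → T ⊆ Models.specialFibreSet R X → ∃ i, T ⊆ S i := by
    intro T hT hTs
    obtain ⟨Z, hZ, hTZ⟩ := (isIrreducible_iff_sUnion_isClosed.1 hT) (Finset.univ.image S) (fun z hz => by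
      obtain ⟨i, -, rfl⟩ := Finset.mem_image.1 hz
      exact (Γ i).ι.isClosedEmbedding.isClosed_range) (fun x hx => by
      obtain ⟨i, hi⟩ := hcov x (hTs hx)
      exact ⟨S i, by simp, hi⟩)
    obtain ⟨i, -, rfl⟩ := Finset.mem_image.1 hZ
    exact ⟨i, hTZ⟩
  have hker : ∀ i j, S i ⊆ S j → S i = S j := fun i j h => by
    have h1 := ker_eq_of_mem (Γ := Γ i) (Γ' := Γ j) (h ⟨_, rfl⟩)
    show Set.range _ = Set.range _
    rw [← support_ker, ← support_ker, h1]
  refine ⟨hinj, Set.ext fun T => ⟨?_, fun hT => ?_⟩⟩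
  · rintro ⟨i, rfl⟩
    refine ⟨hS i, fun U hU hiU => ?_⟩
    obtain ⟨j, hj⟩ := hsub U hU.1 hU.2
    exact hj.trans (hker i j (hiU.trans hj)).ge
  · obtain ⟨i, hi⟩ := hsub T hT.1.1 hT.1.2
    have hT' : Maximal (fun S : Set X.left => IsIrreducible S ∧ S ⊆ Models.specialFibreSet R X) T := hT
    exact ⟨i, (hT'.eq_of_le (hS i) hi).symm⟩

end Curves

/-- Climbing one step at a time. -/
theorem climb {n : ℕ} {P : (Fin n → ℕ) → Prop} {cap : Fin n → ℕ}
    (hnext : ∀ a : Fin n → ℕ, a ≠ 0 → a ≤ cap → a ≠ cap →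
      ∃ i, a i < cap i ∧ (P a → P fun j => a j + if j = i then 1 else 0))
    (a : Fin n → ℕ) (ha0 : a ≠ 0) (ha : a ≤ cap) (hP : P a) : P cap := by
  classical
  induction hm : ∑ j, (cap j - a j) using Nat.strong_induction_on generalizing a with
  | _ m ih =>
    by_cases hac : a = cap
    · exact hac ▸ hP
    · obtain ⟨i, hi, hstep⟩ := hnext a ha0 ha hac
      refine ih _ ?_ _ ?_ (fun j => ?_) (hstep hP) rfl
      · rw [← hm]
        refine Finset.sum_lt_sum (fun j _ => by omega) ⟨i, Finset.mem_univ i, ?_⟩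
        rw [if_pos rfl]; omega
      · intro h
        have := congrFun h i
        simp at this
      · have hj : a j ≤ cap j := ha j
        show (a j + if j = i then 1 else 0) ≤ cap j
        split
        · subst j; omega
        · simpa using hj

variable {R : Type u} [CommRing R] [IsDomain R] [IsDiscreteValuationRing R]
  {X : Over (Spec (CommRingCat.of R))} [IsProper X.hom] [IsLocallyNoetherian X.left]
  [Flat X.hom] [IsIntegral X.left] (hreg : Models.IsRegularScheme X.left)
  (hdim : topologicalKrullDim X.left = 2)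

local notation "κ" => IsLocalRing.ResidueField R

include hreg hdim

theorem inter_symm_of_ne {Γ₁ Γ₂ : ArSurf.VertComp R X}
    (hne : Set.range (Γ₁.ι.base : Γ₁.curve.left → X.left) ≠ Set.range (Γ₂.ι.base : Γ₂.curve.left → X.left))
    {L₁ L₂ : X.left.Modules} (h₁ : ClSub.IsInverseOf L₁ (ClSub.idealMod Γ₁.ι.ker))
    (h₂ : ClSub.IsInverseOf L₂ (ClSub.idealMod Γ₂.ι.ker)) :
    ArSurf.inter R X L₂ Γ₁ = ArSurf.inter R X L₁ Γ₂ := by
  have hk : ∀ {A B : ArSurf.VertComp R X}, Models.genPtOf R X A ∈ (B.ι.ker.support : Set X.left) →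
      Set.range (A.ι.base : A.curve.left → X.left) = Set.range (B.ι.base : B.curve.left → X.left) :=
    fun {A B} h => by rw [← support_ker, ← support_ker, eq_of_mem_support hreg hdim h]
  rw [inter_eq_finrank Γ₁ (isEffCartier_of_surface hreg hdim Γ₂) (fun h => hne (hk h)) h₂,
    inter_eq_finrank Γ₂ (isEffCartier_of_surface hreg hdim Γ₁) (fun h => hne (hk h).symm) h₁,
    finrank_comap_symm]

variable {n : ℕ} {Γs : Fin n → ArSurf.VertComp R X}
  (hinj : Function.Injective fun i => Set.range ((Γs i).ι.base : (Γs i).curve.left → X.left))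
  {L : Fin n → X.left.Modules} (hL : ∀ i, ClSub.IsInverseOf (L i) (ClSub.idealMod (Γs i).ι.ker))

include hinj hL

theorem inter_nonneg_and_disjoint {i j : Fin n} (hij : i ≠ j) :
    0 ≤ ArSurf.inter R X (L j) (Γs i) ∧ (ArSurf.inter R X (L j) (Γs i) = 0 →
      Disjoint (Set.range ((Γs i).ι.base : (Γs i).curve.left → X.left))
        (Set.range ((Γs j).ι.base : (Γs j).curve.left → X.left))) := by
  have hη : Models.genPtOf R X (Γs i) ∉ ((Γs j).ι.ker.support : Set X.left) := fun h =>
    hij (hinj (by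
      show Set.range _ = Set.range _
      rw [← support_ker, ← support_ker, eq_of_mem_support hreg hdim h]))
  rw [inter_eq_finrank (Γs i) (isEffCartier_of_surface hreg hdim (Γs j)) hη (hL j)]
  refine ⟨Int.natCast_nonneg _, fun h => ?_⟩
  rw [Int.natCast_eq_zero, finrank_eq_zero_iff, ← Set.range_eq_empty_iff (f :=
      (((Γs j).ι.ker.comap (Γs i).ι).subschemeι.base :
        ((Γs j).ι.ker.comap (Γs i).ι).subscheme → (Γs i).curve.left)),
    Scheme.IdealSheafData.range_subschemeι, Scheme.IdealSheafData.support_comap] at h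
  rw [← support_ker (Γs j), Set.disjoint_left]
  rintro _ ⟨y, rfl⟩ hy
  exact (Set.eq_empty_iff_forall_notMem.1 h) y hy

theorem isField_step {a : Fin n → ℕ} {i : Fin n}
    (hi : 0 < ∑ j, (a j : ℤ) * ArSurf.inter R X (L j) (Γs i))
    (hF : IsField Γ((∏ j, (Γs j).ι.ker ^ a j).subscheme, ⊤)) :
    IsField Γ((∏ j, (Γs j).ι.ker ^ (a j + if j = i then 1 else 0)).subscheme, ⊤) := by
  classical
  have hD := fun j => isEffCartier_of_surface hreg hdim (Γs j)
  have hI : BlowUp.IsEffCartierIdeal (∏ j, (Γs j).ι.ker ^ a j) :=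
    isEffCartier_prod _ fun j _ => isEffCartier_pow (hD j) _
  have hmul : ∏ j, (Γs j).ι.ker ^ (a j + if j = i then 1 else 0) = (∏ j, (Γs j).ι.ker ^ a j) * (Γs i).ι.ker := by
    simp only [pow_add, Finset.prod_mul_distrib, pow_ite, pow_one, pow_zero]
    rw [Finset.prod_ite_eq' Finset.univ i (fun j => (Γs j).ι.ker), if_pos (Finset.mem_univ i)]
  have hle : (∏ j, (Γs j).ι.ker ^ a j) * (Γs i).ι.ker ≤ ∏ j, (Γs j).ι.ker ^ a j := fun U => by
    rw [Scheme.IdealSheafData.ideal_mul, Pi.mul_apply]; exact Ideal.mul_le_inf.trans inf_le_left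
  have hneg : ArSurf.inter R X (ClSub.idealMod (∏ j, (Γs j).ι.ker ^ a j)) (Γs i) < 0 := by
    show negDeg (Γs i) (∏ j, (Γs j).ι.ker ^ a j) < 0
    rw [negDeg_prod (Γs i) _ fun j _ => isEffCartier_pow (hD j) _]
    have h1 : ∑ j, negDeg (Γs i) ((Γs j).ι.ker ^ a j) = -∑ j, (a j : ℤ) * ArSurf.inter R X (L j) (Γs i) := by
      rw [← Finset.sum_neg_distrib]
      refine Finset.sum_congr rfl fun j _ => ?_
      rw [negDeg_pow _ (hD j), inter_eq_neg_negDeg (Γs i) (hD j) (hL j)]
      ring
    linarith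
  rw [hmul]
  exact isField_of_injective_restrict hle (injective_restrict (Γs i) hI hneg hle) hF

theorem next_ones (hconn : _root_.IsPreconnected (⋃ i, Set.range ((Γs i).ι.base : (Γs i).curve.left → X.left)))
    {a : Fin n → ℕ} (ha0 : a ≠ 0) (ha : a ≤ fun _ => 1) (hne : a ≠ fun _ => 1) :
    ∃ i, a i < (fun _ => 1 : Fin n → ℕ) i ∧ 0 < ∑ j, (a j : ℤ) * ArSurf.inter R X (L j) (Γs i) := by
  classical
  let S : Fin n → Set X.left := fun i => Set.range ((Γs i).ι.base : (Γs i).curve.left → X.left)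
  let A : Set X.left := ⋃ i ∈ Finset.univ.filter (fun i => a i = 0), S i
  let B : Set X.left := ⋃ i ∈ Finset.univ.filter (fun i => a i ≠ 0), S i
  have hA : IsClosed A := Set.Finite.isClosed_biUnion (Finset.finite_toSet _)
    fun i _ => (Γs i).ι.isClosedEmbedding.isClosed_range
  have hB : IsClosed B := Set.Finite.isClosed_biUnion (Finset.finite_toSet _)
    fun i _ => (Γs i).ι.isClosedEmbedding.isClosed_range
  obtain ⟨i₀, hi₀⟩ : ∃ i, a i = 0 := by
    by_contra hall
    push Not at hall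
    refine hne (funext fun i => ?_)
    have h1 : a i ≤ 1 := ha i
    have h2 := hall i
    omega
  obtain ⟨j₀, hj₀⟩ : ∃ i, a i ≠ 0 := by
    by_contra hall
    push Not at hall
    exact ha0 (funext hall)
  have hcov : (⋃ i, S i) ⊆ A ∪ B := fun x hx => by
    obtain ⟨i, hi⟩ := Set.mem_iUnion.1 hx
    by_cases h : a i = 0
    · exact Or.inl (Set.mem_iUnion₂.2 ⟨i, by simp [h], hi⟩)
    · exact Or.inr (Set.mem_iUnion₂.2 ⟨i, by simp [h], hi⟩)
  obtain ⟨x, -, hxA, hxB⟩ := isPreconnected_closed_iff.1 hconn A B hA hB hcov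
    ⟨_, Set.mem_iUnion.2 ⟨i₀, genericPoint _, rfl⟩, Set.mem_iUnion₂.2 ⟨i₀, by simp [hi₀], genericPoint _, rfl⟩⟩
    ⟨_, Set.mem_iUnion.2 ⟨j₀, genericPoint _, rfl⟩, Set.mem_iUnion₂.2 ⟨j₀, by simp [hj₀], genericPoint _, rfl⟩⟩
  obtain ⟨i, hi, hxi⟩ := Set.mem_iUnion₂.1 hxA
  obtain ⟨j, hj, hxj⟩ := Set.mem_iUnion₂.1 hxB
  simp only [Finset.mem_filter, Finset.mem_univ, true_and] at hi hj
  have hij : i ≠ j := fun h => hj (h ▸ hi)
  refine ⟨i, by show a i < 1; omega, ?_⟩
  have hpos := (inter_nonneg_and_disjoint hreg hdim hinj hL hij)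
  refine Finset.sum_pos' (fun k _ => ?_) ⟨j, Finset.mem_univ j, mul_pos ?_ ?_⟩
  · rcases eq_or_ne k i with rfl | hk
    · rw [hi]; simp
    · exact mul_nonneg (Int.natCast_nonneg _) (inter_nonneg_and_disjoint hreg hdim hinj hL hk.symm).1
  · exact_mod_cast Nat.pos_of_ne_zero hj
  · exact lt_of_le_of_ne hpos.1 fun h => Set.disjoint_left.1 (hpos.2 h.symm) hxi hxj

theorem isField_fundamental
    (hconn : _root_.IsPreconnected (⋃ i, Set.range ((Γs i).ι.base : (Γs i).curve.left → X.left)))
    (i₀ : Fin n) (z : Fin n → ℕ) (hz1 : ∀ i, 1 ≤ z i)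
    (hz : ∀ i, ∑ j, (z j : ℤ) * ArSurf.inter R X (L j) (Γs i) ≤ 0)
    (hmin : ∀ z' : Fin n → ℕ, (∀ i, 1 ≤ z' i) →
      (∀ i, ∑ j, (z' j : ℤ) * ArSurf.inter R X (L j) (Γs i) ≤ 0) → ∀ i, z i ≤ z' i) :
    IsField Γ((∏ j, (Γs j).ι.ker ^ z j).subscheme, ⊤) := by
  classical
  let P : (Fin n → ℕ) → Prop := fun a => IsField Γ((∏ j, (Γs j).ι.ker ^ a j).subscheme, ⊤)
  have h0 : P fun j => if j = i₀ then 1 else 0 := by
    show IsField _
    have h1 : ∏ j, (Γs j).ι.ker ^ (if j = i₀ then 1 else 0) = (Γs i₀).ι.ker := by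
      simp only [pow_ite, pow_one, pow_zero]
      rw [Finset.prod_ite_eq' Finset.univ i₀ (fun j => (Γs j).ι.ker), if_pos (Finset.mem_univ i₀)]
    rw [h1]
    exact isField_component (Γs i₀)
  have h1 : P fun _ => 1 := by
    refine climb (fun a ha0 ha hne => ?_) _ (fun h => by simpa using congrFun h i₀)
      (fun j => by show (if j = i₀ then (1 : ℕ) else 0) ≤ (1 : ℕ); split <;> simp) h0
    obtain ⟨i, hi, hpos⟩ := next_ones hreg hdim hinj hL hconn ha0 ha hne
    exact ⟨i, hi, isField_step hreg hdim hinj hL hpos⟩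
  show P z
  let Q : (Fin n → ℕ) → Prop := fun a => P a ∧ ∀ i, 1 ≤ a i
  suffices Q z from this.1
  refine climb (fun a _ ha hne => ?_) (fun _ => 1) (fun h => one_ne_zero (congrFun h i₀)) hz1 ⟨h1, fun _ => le_rfl⟩
  by_cases ha1 : ∀ i, 1 ≤ a i
  · obtain ⟨i, hi⟩ : ∃ i, 0 < ∑ j, (a j : ℤ) * ArSurf.inter R X (L j) (Γs i) := by
      by_contra hall
      push Not at hall
      exact hne (funext fun i => le_antisymm (ha i) (hmin a ha1 hall i))
    refine ⟨i, ?_, fun hQ => ⟨isField_step hreg hdim hinj hL hi hQ.1, fun j => (hQ.2 j).trans (Nat.le_add_right _ _)⟩⟩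
    have hai : a i ≤ z i := ha i
    by_contra hlt
    refine not_le.2 hi ((Finset.sum_le_sum fun j _ => ?_).trans (hz i))
    rcases eq_or_ne j i with rfl | hj
    · rw [show a j = z j by omega]
    · exact mul_le_mul_of_nonneg_right (by exact_mod_cast ha j)
        (inter_nonneg_and_disjoint hreg hdim hinj hL hj.symm).1
  · obtain ⟨i, hi⟩ := not_forall.1 ha1
    exact ⟨i, lt_of_lt_of_le (not_le.1 hi) (hz1 i), fun hQ => absurd (hQ.2 i) hi⟩

end Groth.L05.ArFamily
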